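import Groth.Agent.Lib.Helper8.RGV.Poly
import Mathlib.RingTheory.Flat.TorsionFree
import Mathlib.RingTheory.LocalRing.Module
import Mathlib.RingTheory.EssentialFiniteness
import Mathlib.Algebra.Module.FinitePresentation
import Mathlib.Algebra.MvPolynomial.PDeriv

/-!
# helper8: finite type + flat over an arbitrary valuation ring implies finite presentation

Saturated ideals of `V[X₁,…,Xₙ]` (`V` any valuation ring) are finitely generated
(homogenize; graded pieces are finite free, Nakayama degree by degree).  Module version via the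
ideal of "linear forms", and the local/essentially finite type version.
-/

set_option autoImplicit false
universe u

open MvPolynomial IsLocalRing

namespace Groth.Agent.H8.Val

open Groth.Agent.H8.RGV

section

variable (V : Type u) [CommRing V] [IsDomain V] [ValuationRing V]

/-- saturated submodules of finite modules over a valuation ring are finitely generated -/
theorem sat_fg_of_finite (M : Type*) [AddCommGroup M] [Module V M] [Module.Finite V M]
    (N : Submodule V M) (hsat : ∀ a : V, a ≠ 0 → ∀ x : M, a • x ∈ N → x ∈ N) : N.FG := by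
  haveI : Module.Flat V (M ⧸ N) := by
    rw [Module.Flat.flat_iff_torsion_eq_bot_of_isBezout, eq_bot_iff]
    intro x hx
    rw [Submodule.mem_torsion_iff] at hx
    obtain ⟨⟨a, ha⟩, hax⟩ := hx
    obtain ⟨y, rfl⟩ := N.mkQ_surjective x
    have ha0 : a ≠ 0 := nonZeroDivisors.ne_zero ha
    have hax' : a • N.mkQ y = 0 := hax
    rw [← map_smul, Submodule.mkQ_apply, Submodule.Quotient.mk_eq_zero] at hax'
    rw [Submodule.mem_bot, Submodule.mkQ_apply, Submodule.Quotient.mk_eq_zero]
    exact hsat a ha0 y hax'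
  haveI : Module.Free V (M ⧸ N) := Module.free_of_flat_of_isLocalRing
  obtain ⟨h, hh⟩ := Module.projective_lifting_property N.mkQ LinearMap.id N.mkQ_surjective
  have hN : N = LinearMap.range (LinearMap.id - h.comp N.mkQ) := by
    ext x
    constructor
    · intro hx
      refine ⟨x, ?_⟩
      have h0 : N.mkQ x = 0 := by
        rw [Submodule.mkQ_apply, Submodule.Quotient.mk_eq_zero]; exact hx
      rw [LinearMap.sub_apply, LinearMap.id_apply, LinearMap.comp_apply, h0, map_zero, sub_zero]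
    · rintro ⟨y, rfl⟩
      rw [← Submodule.Quotient.mk_eq_zero N, ← Submodule.mkQ_apply, LinearMap.sub_apply,
        LinearMap.id_apply, LinearMap.comp_apply, map_sub]
      have h1 := LinearMap.congr_fun hh (N.mkQ y)
      rw [LinearMap.comp_apply, LinearMap.id_apply] at h1
      rw [h1, sub_self]
  rw [hN, LinearMap.range_eq_map]
  exact Module.Finite.fg_top.map _

/-- a polynomial with all coefficients in the maximal ideal is divisible by a single element of
the maximal ideal -/
theorem exists_smul_of_coeff_mem {σ : Type*} (y : MvPolynomial σ V)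
    (hy : ∀ ν, coeff ν y ∈ maximalIdeal V) :
    ∃ a ∈ maximalIdeal V, ∃ s : MvPolynomial σ V, y = a • s := by
  classical
  rcases y.support.eq_empty_or_nonempty with he | hne
  · refine ⟨0, zero_mem _, 0, ?_⟩
    rw [smul_zero]
    exact MvPolynomial.support_eq_empty.mp he
  obtain ⟨ν₀, hν₀, hdvd⟩ := exists_dvd_all' y.support hne (fun ν => coeff ν y)
  have hb : ∀ ν, ∃ b, coeff ν y = coeff ν₀ y * b := by
    intro ν
    by_cases hν : ν ∈ y.support
    · exact hdvd ν hν
    · exact ⟨0, by rw [mul_zero]; exact notMem_support_iff.mp hν⟩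
  choose b hb using hb
  refine ⟨coeff ν₀ y, hy ν₀, ∑ ν ∈ y.support, monomial ν (b ν), ?_⟩
  conv_lhs => rw [y.as_sum]
  rw [Finset.smul_sum]
  refine Finset.sum_congr rfl fun ν _ => ?_
  rw [smul_monomial, smul_eq_mul, ← hb]

/-- graded version: a homogeneous saturated ideal of `V[X]` is finitely generated -/
theorem graded_sat_fg_val (k : ℕ) (𝔅 : Ideal (MvPolynomial (Fin k) V))
    (hhom : ∀ x ∈ 𝔅, ∀ e, homogeneousComponent e x ∈ 𝔅)
    (hsat : ∀ a : V, a ≠ 0 → ∀ x : MvPolynomial (Fin k) V, a • x ∈ 𝔅 → x ∈ 𝔅) : 𝔅.FG := by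
  classical
  letI : Field (V ⧸ maximalIdeal V) := Ideal.Quotient.field _
  obtain ⟨q, hq⟩ : ∃ q : MvPolynomial (Fin k) V →+* MvPolynomial (Fin k) (V ⧸ maximalIdeal V),
      q = MvPolynomial.map (Ideal.Quotient.mk (maximalIdeal V)) := ⟨_, rfl⟩
  have hqsurj : Function.Surjective q := by
    rw [hq]; exact MvPolynomial.map_surjective _ Ideal.Quotient.mk_surjective
  have hqker : ∀ x, q x = 0 → ∃ a ∈ maximalIdeal V, ∃ s, x = a • s := by
    intro x hx
    refine exists_smul_of_coeff_mem V x (fun ν => ?_)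
    have h1 : coeff ν (q x) = Ideal.Quotient.mk (maximalIdeal V) (coeff ν x) := by
      rw [hq]; exact MvPolynomial.coeff_map _ _ _
    rw [hx, coeff_zero, eq_comm, Ideal.Quotient.eq_zero_iff_mem] at h1
    exact h1
  have hmapfg : (Ideal.map q 𝔅).FG := IsNoetherian.noetherian _
  have hT : ∃ T : Finset (MvPolynomial (Fin k) V),
      (↑T : Set (MvPolynomial (Fin k) V)) ⊆ (𝔅 : Set (MvPolynomial (Fin k) V)) ∧
      ∀ x ∈ 𝔅, ∃ g ∈ Ideal.span (↑T : Set (MvPolynomial (Fin k) V)), q (x - g) = 0 := by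
    have h1 : (Submodule.span (MvPolynomial (Fin k) (V ⧸ maximalIdeal V))
        (q '' (𝔅 : Set (MvPolynomial (Fin k) V)))).FG := hmapfg
    obtain ⟨T', hT'sub, hT'eq⟩ := (Submodule.fg_span_iff_fg_span_finset_subset _).mp h1
    have hlift' : ∀ y : MvPolynomial (Fin k) (V ⧸ maximalIdeal V),
        ∃ b : MvPolynomial (Fin k) V,
        y ∈ (↑T' : Set (MvPolynomial (Fin k) (V ⧸ maximalIdeal V))) → b ∈ 𝔅 ∧ q b = y := by
      intro y
      by_cases hy : y ∈ (↑T' : Set (MvPolynomial (Fin k) (V ⧸ maximalIdeal V)))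
      · obtain ⟨b, hb, hby⟩ := hT'sub hy
        exact ⟨b, fun _ => ⟨hb, hby⟩⟩
      · exact ⟨0, fun h => absurd h hy⟩
    choose lift hlift using hlift'
    refine ⟨T'.image lift, ?_, ?_⟩
    · intro x hx
      rw [Finset.coe_image] at hx
      obtain ⟨y, hy, rfl⟩ := hx
      exact (hlift y hy).1
    · intro x hx
      have h2 : q x ∈ Ideal.map q (Ideal.span (↑(T'.image lift) :
          Set (MvPolynomial (Fin k) V))) := by
        rw [Ideal.map_span, Finset.coe_image, Set.image_image]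
        have h3 : q x ∈ Submodule.span (MvPolynomial (Fin k) (V ⧸ maximalIdeal V))
            (q '' (𝔅 : Set (MvPolynomial (Fin k) V))) := Submodule.subset_span ⟨x, hx, rfl⟩
        rw [hT'eq] at h3
        refine Submodule.span_mono ?_ h3
        intro y hy
        exact ⟨y, hy, (hlift y hy).2⟩
      obtain ⟨g, hg, hgx⟩ := (Ideal.mem_map_iff_of_surjective q hqsurj).mp h2
      exact ⟨g, hg, by rw [map_sub, hgx, sub_self]⟩
  obtain ⟨T, hT𝔅, hTgen⟩ := hT
  obtain ⟨Th, hTh⟩ : ∃ Th : Finset (MvPolynomial (Fin k) V),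
      Th = T.biUnion (fun g => (Finset.range (g.totalDegree + 1)).image
        (fun e => homogeneousComponent e g)) := ⟨_, rfl⟩
  have hThmem : ∀ x, x ∈ Th ↔ ∃ g ∈ T, ∃ e ∈ Finset.range (g.totalDegree + 1),
      homogeneousComponent e g = x := by
    intro x
    rw [hTh, Finset.mem_biUnion]
    simp only [Finset.mem_image]
  obtain ⟨𝔊, h𝔊⟩ : ∃ 𝔊 : Ideal (MvPolynomial (Fin k) V),
      𝔊 = Ideal.span (↑Th : Set (MvPolynomial (Fin k) V)) := ⟨_, rfl⟩
  have hT𝔊 : Ideal.span (↑T : Set (MvPolynomial (Fin k) V)) ≤ 𝔊 := by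
    rw [Ideal.span_le]
    intro g hg
    have hsum := sum_homogeneousComponent g
    rw [SetLike.mem_coe, ← hsum, h𝔊]
    refine Ideal.sum_mem _ (fun e he => Ideal.subset_span ?_)
    rw [Finset.mem_coe, hThmem]
    exact ⟨g, hg, e, he, rfl⟩
  have h𝔊𝔅 : 𝔊 ≤ 𝔅 := by
    rw [h𝔊, Ideal.span_le]
    intro x hx
    rw [Finset.mem_coe, hThmem] at hx
    obtain ⟨g, hg, e, -, rfl⟩ := hx
    exact hhom g (hT𝔅 hg) e
  have h𝔊hom : ∀ x ∈ 𝔊, ∀ e, homogeneousComponent e x ∈ 𝔊 := by
    intro x hx e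
    rw [h𝔊] at hx ⊢
    refine homogeneousComponent_mem_span _ ?_ x hx e
    intro y hy
    rw [Finset.mem_coe, hThmem] at hy
    obtain ⟨g, -, e', -, rfl⟩ := hy
    exact ⟨e', homogeneousComponent_isHomogeneous e' g⟩
  have hjac : maximalIdeal V ≤ Ideal.jacobson (⊥ : Ideal V) := by
    rw [IsLocalRing.jacobson_eq_maximalIdeal (⊥ : Ideal V) bot_ne_top]
  have hdeg : ∀ e : ℕ, ∀ x ∈ 𝔅, x.IsHomogeneous e → x ∈ 𝔊 := by
    intro e
    haveI : Module.Finite V ↥(homogeneousSubmodule (Fin k) V e) :=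
      Module.Finite.iff_fg.mpr (homogeneousSubmodule_fg (Fin k) V e)
    obtain ⟨Ne, hNe⟩ : ∃ Ne : Submodule V ↥(homogeneousSubmodule (Fin k) V e),
        Ne = Submodule.comap (homogeneousSubmodule (Fin k) V e).subtype
          (𝔅.restrictScalars V) := ⟨_, rfl⟩
    obtain ⟨Ne', hNe'⟩ : ∃ Ne' : Submodule V ↥(homogeneousSubmodule (Fin k) V e),
        Ne' = Submodule.comap (homogeneousSubmodule (Fin k) V e).subtype
          (𝔊.restrictScalars V) := ⟨_, rfl⟩
    have hNemem : ∀ x, x ∈ Ne ↔ (x : MvPolynomial (Fin k) V) ∈ 𝔅 := by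
      intro x; rw [hNe]; rfl
    have hNe'mem : ∀ x, x ∈ Ne' ↔ (x : MvPolynomial (Fin k) V) ∈ 𝔊 := by
      intro x; rw [hNe']; rfl
    have hNefg : Ne.FG := by
      refine sat_fg_of_finite V _ Ne ?_
      intro a ha x hx
      rw [hNemem] at hx ⊢
      rw [Submodule.coe_smul] at hx
      exact hsat a ha _ hx
    have hle : Ne ≤ Ne' := by
      refine Submodule.le_of_le_smul_of_le_jacobson_bot (I := maximalIdeal V) hNefg hjac ?_
      intro x hx
      rw [hNemem] at hx
      obtain ⟨g, hg, h0⟩ := hTgen _ hx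
      obtain ⟨a, ha, s, hs⟩ := hqker _ h0
      have hxe : homogeneousComponent e (x : MvPolynomial (Fin k) V) = x :=
        homogeneousComponent_eq_self x.2
      have h2 : (x : MvPolynomial (Fin k) V) =
          homogeneousComponent e g + a • homogeneousComponent e s := by
        rw [← map_smul, ← hs, map_sub, hxe]
        abel
      have hge : homogeneousComponent e g ∈ 𝔊 := h𝔊hom g (hT𝔊 hg) e
      by_cases ha0 : a = 0
      · rw [ha0, zero_smul, add_zero] at h2
        refine Submodule.mem_sup_left ?_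
        rw [hNe'mem, h2]
        exact hge
      · have hse : homogeneousComponent e s ∈ 𝔅 := by
          apply hsat a ha0
          have h3 : a • homogeneousComponent e s =
              (x : MvPolynomial (Fin k) V) - homogeneousComponent e g := by
            rw [eq_sub_iff_add_eq, add_comm]
            exact h2.symm
          rw [h3]
          exact 𝔅.sub_mem hx (h𝔊𝔅 hge)
        have hxeq : x = (⟨homogeneousComponent e g, homogeneousComponent_isHomogeneous e g⟩ :
            ↥(homogeneousSubmodule (Fin k) V e)) +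
            a • (⟨homogeneousComponent e s, homogeneousComponent_isHomogeneous e s⟩ :
              ↥(homogeneousSubmodule (Fin k) V e)) := by
          apply Subtype.ext
          rw [Submodule.coe_add, Submodule.coe_smul]
          exact h2
        rw [hxeq]
        refine Submodule.add_mem_sup ?_ (Submodule.smul_mem_smul ha ?_)
        · rw [hNe'mem]; exact hge
        · rw [hNemem]; exact hse
    intro x hx hxhom
    have := hle ((hNemem ⟨x, hxhom⟩).mpr hx)
    exact (hNe'mem ⟨x, hxhom⟩).mp this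
  have hle𝔅 : 𝔅 ≤ 𝔊 := by
    intro x hx
    have hsum := sum_homogeneousComponent x
    rw [← hsum]
    exact Ideal.sum_mem _ (fun e _ => hdeg e _ (hhom x hx e)
      (homogeneousComponent_isHomogeneous e x))
  have h𝔅𝔊 : 𝔅 = 𝔊 := le_antisymm hle𝔅 h𝔊𝔅
  rw [h𝔅𝔊, h𝔊]
  exact ⟨Th, rfl⟩

/-- saturated ideals of `V[X₁,…,X_m]` are finitely generated -/
theorem poly_sat_fg_val (m : ℕ) (𝔟 : Ideal (MvPolynomial (Fin m) V))
    (hsat : ∀ a : V, a ≠ 0 → ∀ x : MvPolynomial (Fin m) V, a • x ∈ 𝔟 → x ∈ 𝔟) : 𝔟.FG := by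
  classical
  obtain ⟨Gset, hGset⟩ : ∃ Gset : Set (MvPolynomial (Fin (m + 1)) V),
      Gset = {F | (∃ e, F.IsHomogeneous e) ∧ dehom m F ∈ 𝔟} := ⟨_, rfl⟩
  obtain ⟨𝔅, h𝔅⟩ : ∃ 𝔅 : Ideal (MvPolynomial (Fin (m + 1)) V), 𝔅 = Ideal.span Gset :=
    ⟨_, rfl⟩
  have hP1 : ∀ F ∈ 𝔅, dehom m F ∈ 𝔟 := by
    have : 𝔅 ≤ Ideal.comap (dehom m) 𝔟 := by
      rw [h𝔅, Ideal.span_le, hGset]
      intro F hF
      exact hF.2
    exact fun F hF => this hF
  have hP2 : ∀ x ∈ 𝔅, ∀ e, homogeneousComponent e x ∈ 𝔅 := by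
    intro x hx e
    rw [h𝔅] at hx ⊢
    exact homogeneousComponent_mem_span _ (by rw [hGset]; intro y hy; exact hy.1) x hx e
  have hP3 : ∀ a : V, a ≠ 0 → ∀ x : MvPolynomial (Fin (m + 1)) V, a • x ∈ 𝔅 → x ∈ 𝔅 := by
    intro a ha x hx
    have hsum := sum_homogeneousComponent x
    rw [← hsum]
    refine Ideal.sum_mem _ (fun e _ => ?_)
    have h1 : a • homogeneousComponent e x ∈ 𝔅 := by
      have := hP2 _ hx e
      rwa [map_smul] at this
    have h2 := hP1 _ h1
    rw [map_smul] at h2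
    have h3 := hsat a ha _ h2
    rw [h𝔅]
    apply Ideal.subset_span
    rw [hGset]
    exact ⟨⟨e, homogeneousComponent_isHomogeneous e x⟩, h3⟩
  have hfg := graded_sat_fg_val V (m + 1) 𝔅 hP2 hP3
  have h𝔟 : 𝔟 = Ideal.map (dehom m) 𝔅 := by
    apply le_antisymm
    · intro g hg
      have h1 : homog m g ∈ 𝔅 := by
        rw [h𝔅]
        apply Ideal.subset_span
        rw [hGset]
        exact ⟨⟨_, homog_isHomogeneous m g⟩, by rw [dehom_homog]; exact hg⟩
      have h2 := Ideal.mem_map_of_mem (dehom m) h1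
      rwa [dehom_homog] at h2
    · rw [Ideal.map_le_iff_le_comap]
      exact fun F hF => hP1 F hF
  rw [h𝔟]
  exact hfg.map _

/-- saturated ideals of a finitely generated `V`-algebra are finitely generated -/
theorem ft_sat_fg_val (C : Type u) [CommRing C] [Algebra V C] [Algebra.FiniteType V C]
    (𝔠 : Ideal C) (hsat : ∀ a : V, a ≠ 0 → ∀ x : C, a • x ∈ 𝔠 → x ∈ 𝔠) : 𝔠.FG := by
  obtain ⟨m, π, hπ⟩ := Algebra.FiniteType.iff_quotient_mvPolynomial''.mp
    (inferInstance : Algebra.FiniteType V C)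
  have h1 : (Ideal.comap π 𝔠).FG := by
    refine poly_sat_fg_val V m _ ?_
    intro a ha x hx
    rw [Ideal.mem_comap] at hx ⊢
    apply hsat a ha
    rwa [map_smul] at hx
  have h2 : Ideal.map π (Ideal.comap π 𝔠) = 𝔠 := Ideal.map_comap_of_surjective π hπ 𝔠
  rw [← h2]
  exact h1.map _

/-- a finitely generated flat (= torsion free) algebra over a valuation ring is finitely
presented -/
theorem fp_of_ft_torsionFree (C : Type u) [CommRing C] [Algebra V C] [Algebra.FiniteType V C]
    (hC : ∀ a : V, a ≠ 0 → ∀ c : C, a • c = 0 → c = 0) : Algebra.FinitePresentation V C := by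
  obtain ⟨m, π, hπ⟩ := Algebra.FiniteType.iff_quotient_mvPolynomial''.mp
    (inferInstance : Algebra.FiniteType V C)
  refine Algebra.FinitePresentation.iff_quotient_mvPolynomial'.mpr ⟨Fin m, inferInstance, π, hπ, ?_⟩
  have h1 : RingHom.ker π.toRingHom = Ideal.comap π (⊥ : Ideal C) := rfl
  rw [h1]
  refine poly_sat_fg_val V m _ ?_
  intro a ha x hx
  rw [Ideal.mem_comap, Ideal.mem_bot] at hx ⊢
  apply hC a ha
  rwa [map_smul] at hx

/-- saturated submodules of finite free modules over a torsion free finitely generated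
`V`-algebra are finitely generated -/
theorem submodule_sat_fg (S : Type u) [CommRing S] [Algebra V S] [Algebra.FiniteType V S]
    (hC : ∀ a : V, a ≠ 0 → ∀ c : S, a • c = 0 → c = 0) (r : ℕ)
    (L : Submodule S (Fin r → S))
    (hsat : ∀ a : V, a ≠ 0 → ∀ x : Fin r → S, a • x ∈ L → x ∈ L) : L.FG := by
  classical
  obtain ⟨lam, hlam⟩ : ∃ lam : MvPolynomial (Fin r) S → (Fin r → S),
      lam = fun F i => constantCoeff (pderiv i F) := ⟨_, rfl⟩
  have hlam_zero : lam 0 = 0 := by
    rw [hlam]; funext i; simp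
  have hlam_add : ∀ F G, lam (F + G) = lam F + lam G := by
    intro F G; rw [hlam]; funext i; simp
  have hlam_mul : ∀ G F, constantCoeff F = 0 → lam (G * F) = constantCoeff G • lam F := by
    intro G F hF
    rw [hlam]
    funext i
    show constantCoeff (pderiv i (G * F)) = constantCoeff G • constantCoeff (pderiv i F)
    rw [Derivation.leibniz, map_add, smul_eq_mul, smul_eq_mul, map_mul, map_mul, hF, zero_mul,
      add_zero, smul_eq_mul]
  have hlam_smul : ∀ (a : V) F, lam (a • F) = a • lam F := by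
    intro a F
    rw [hlam]
    funext i
    show constantCoeff (pderiv i (a • F)) = a • constantCoeff (pderiv i F)
    rw [← algebraMap_smul S a F, smul_eq_C_mul, pderiv_C_mul, map_mul, constantCoeff_C,
      Algebra.smul_def]
  have hcc_smul : ∀ (a : V) (F : MvPolynomial (Fin r) S),
      constantCoeff (a • F) = a • constantCoeff F := by
    intro a F
    rw [← algebraMap_smul S a F, smul_eq_C_mul, map_mul, constantCoeff_C, Algebra.smul_def]
  have hlam_lin : ∀ l : Fin r → S, lam (∑ i, C (l i) * X i) = l := by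
    intro l
    rw [hlam]
    funext i
    show constantCoeff (pderiv i (∑ j, C (l j) * X j)) = l i
    rw [map_sum, map_sum, Finset.sum_eq_single i]
    · rw [pderiv_C_mul, pderiv_X, Pi.single_eq_same, mul_one, constantCoeff_C]
    · intro j _ hji
      rw [pderiv_C_mul, pderiv_X, Pi.single_eq_of_ne hji, mul_zero, map_zero]
    · intro h; exact absurd (Finset.mem_univ i) h
  have hcc_lin : ∀ l : Fin r → S, constantCoeff (∑ i, C (l i) * X i) = 0 := by
    intro l
    rw [map_sum]
    refine Finset.sum_eq_zero fun i _ => ?_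
    rw [map_mul, constantCoeff_X, mul_zero]
  obtain ⟨𝔟, h𝔟⟩ : ∃ 𝔟 : Ideal (MvPolynomial (Fin r) S),
      ∀ F, F ∈ 𝔟 ↔ constantCoeff F = 0 ∧ lam F ∈ L :=
    ⟨{ carrier := {F | constantCoeff F = 0 ∧ lam F ∈ L}
       add_mem' := by
        rintro F G ⟨hF1, hF2⟩ ⟨hG1, hG2⟩
        refine ⟨by rw [map_add, hF1, hG1, add_zero], ?_⟩
        rw [hlam_add]
        exact L.add_mem hF2 hG2
       zero_mem' := ⟨map_zero _, by rw [hlam_zero]; exact L.zero_mem⟩
       smul_mem' := by
        rintro G F ⟨hF1, hF2⟩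
        refine ⟨by rw [smul_eq_mul, map_mul, hF1, mul_zero], ?_⟩
        rw [smul_eq_mul, hlam_mul G F hF1]
        exact L.smul_mem _ hF2 }, fun F => Iff.rfl⟩
  have h𝔟fg : 𝔟.FG := by
    refine ft_sat_fg_val V (MvPolynomial (Fin r) S) 𝔟 ?_
    intro a ha F hF
    rw [h𝔟] at hF ⊢
    obtain ⟨hF1, hF2⟩ := hF
    rw [hcc_smul] at hF1
    rw [hlam_smul] at hF2
    exact ⟨hC a ha _ hF1, hsat a ha _ hF2⟩
  obtain ⟨G, hG⟩ := h𝔟fg
  have hind : ∀ F ∈ Ideal.span (↑G : Set (MvPolynomial (Fin r) S)),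
      constantCoeff F = 0 ∧ lam F ∈ Submodule.span S (lam '' (↑G : Set (MvPolynomial (Fin r) S))) := by
    intro F hF
    refine Submodule.span_induction (p := fun F _ => constantCoeff F = 0 ∧
      lam F ∈ Submodule.span S (lam '' (↑G : Set (MvPolynomial (Fin r) S)))) ?_ ?_ ?_ ?_ hF
    · intro g hg
      have hg𝔟 : g ∈ 𝔟 := by rw [← hG]; exact Ideal.subset_span hg
      exact ⟨((h𝔟 g).mp hg𝔟).1, Submodule.subset_span ⟨g, hg, rfl⟩⟩
    · exact ⟨map_zero _, by rw [hlam_zero]; exact Submodule.zero_mem _⟩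
    · rintro x y _ _ ⟨hx1, hx2⟩ ⟨hy1, hy2⟩
      refine ⟨by rw [map_add, hx1, hy1, add_zero], ?_⟩
      rw [hlam_add]
      exact Submodule.add_mem _ hx2 hy2
    · rintro h x _ ⟨hx1, hx2⟩
      refine ⟨by rw [smul_eq_mul, map_mul, hx1, mul_zero], ?_⟩
      rw [smul_eq_mul, hlam_mul h x hx1]
      exact Submodule.smul_mem _ _ hx2
  have hL : L = Submodule.span S (lam '' (↑G : Set (MvPolynomial (Fin r) S))) := by
    apply le_antisymm
    · intro l hl
      have h1 : (∑ i, C (l i) * X i : MvPolynomial (Fin r) S) ∈ 𝔟 := by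
        rw [h𝔟, hlam_lin]
        exact ⟨hcc_lin l, hl⟩
      rw [← hG] at h1
      have h2 := (hind _ h1).2
      rwa [hlam_lin] at h2
    · rw [Submodule.span_le]
      rintro _ ⟨g, hg, rfl⟩
      have hg𝔟 : g ∈ 𝔟 := by rw [← hG]; exact Ideal.subset_span hg
      exact ((h𝔟 g).mp hg𝔟).2
  rw [hL]
  exact ⟨G.image lam, by rw [Finset.coe_image]⟩

end

/-- Raynaud–Gruson over a valuation ring: a finite module over an algebra essentially of finite
type, flat over the valuation ring, is finitely presented -/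
theorem fp_of_flat (A B M : Type u) [CommRing A] [IsDomain A] [ValuationRing A]
    [CommRing B] [Algebra A B] [Algebra.EssFiniteType A B]
    [AddCommGroup M] [Module B M] [Module A M] [IsScalarTower A B M]
    [Module.Finite B M] [Module.Flat A M] : Module.FinitePresentation B M := by
  classical
  obtain ⟨σ, hσ⟩ := (Algebra.essFiniteType_iff A B).mp inferInstance
  obtain ⟨B₀, hB₀⟩ : ∃ B₀ : Subalgebra A B, B₀ = Algebra.adjoin A (σ : Set B) := ⟨_, rfl⟩
  rw [← hB₀] at hσ
  haveI : Algebra.FiniteType A B₀ := by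
    rw [hB₀]
    exact ⟨(Subalgebra.fg_top _).mpr ⟨σ, rfl⟩⟩
  obtain ⟨n, ψ, hψ⟩ := Algebra.FiniteType.iff_quotient_mvPolynomial''.mp
    (inferInstance : Algebra.FiniteType A B₀)
  obtain ⟨ψ', hψ'⟩ : ∃ ψ' : MvPolynomial (Fin n) A →ₐ[A] B, ψ' = B₀.val.comp ψ := ⟨_, rfl⟩
  have hψ'range : ∀ b : B, b ∈ B₀ → ∃ p, ψ' p = b := by
    intro b hb
    obtain ⟨p, hp⟩ := hψ ⟨b, hb⟩
    refine ⟨p, ?_⟩
    rw [hψ']
    show ((ψ p : B₀) : B) = b
    rw [hp]
  obtain ⟨r, m, hm⟩ := Module.Finite.exists_fin (R := B) (M := M)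
  have htf : ∀ a : A, a ≠ 0 → ∀ x : M, a • x = 0 → x = 0 := by
    intro a ha x hx
    have h1 : x ∈ Submodule.torsion A M := by
      rw [Submodule.mem_torsion_iff]
      exact ⟨⟨a, mem_nonZeroDivisors_of_ne_zero ha⟩, hx⟩
    rw [Module.Flat.torsion_eq_bot, Submodule.mem_bot] at h1
    exact h1
  have hPtf : ∀ a : A, a ≠ 0 → ∀ c : MvPolynomial (Fin n) A, a • c = 0 → c = 0 := by
    intro a ha c hc
    rw [smul_eq_C_mul] at hc
    rcases mul_eq_zero.mp hc with h | h
    · exact absurd (C_eq_zero.mp h) ha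
    · exact h
  obtain ⟨L, hL⟩ : ∃ L : Submodule (MvPolynomial (Fin n) A) (Fin r → MvPolynomial (Fin n) A),
      ∀ p, p ∈ L ↔ ∑ i, ψ' (p i) • m i = 0 :=
    ⟨{ carrier := {p | ∑ i, ψ' (p i) • m i = 0}
       add_mem' := by
        intro p p' hp hp'
        show ∑ i, ψ' ((p + p') i) • m i = 0
        simp only [Pi.add_apply, map_add, add_smul, Finset.sum_add_distrib]
        rw [hp, hp', add_zero]
       zero_mem' := by
        show ∑ i, ψ' ((0 : Fin r → MvPolynomial (Fin n) A) i) • m i = 0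
        simp
       smul_mem' := by
        intro h p hp
        show ∑ i, ψ' ((h • p) i) • m i = 0
        simp only [Pi.smul_apply, smul_eq_mul, map_mul, mul_smul]
        rw [← Finset.smul_sum, hp, smul_zero] }, fun p => Iff.rfl⟩
  have hLfg : L.FG := by
    refine submodule_sat_fg A (MvPolynomial (Fin n) A) hPtf r L ?_
    intro a ha p hp
    rw [hL] at hp ⊢
    apply htf a ha
    rw [Finset.smul_sum, ← hp]
    refine Finset.sum_congr rfl fun i _ => ?_
    rw [Pi.smul_apply, map_smul, smul_assoc]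
  obtain ⟨G, hG⟩ := hLfg
  obtain ⟨π, hπ⟩ : ∃ π : (Fin r → B) →ₗ[B] M, ∀ b, π b = ∑ i, b i • m i :=
    ⟨Fintype.linearCombination B m, fun b => rfl⟩
  have hπsurj : Function.Surjective π := by
    have h1 : π = Fintype.linearCombination B m :=
      LinearMap.ext fun b => by rw [hπ]; rfl
    rw [← LinearMap.range_eq_top, h1, Fintype.range_linearCombination, hm]
  obtain ⟨Ψ, hΨ⟩ : ∃ Ψ : (Fin r → MvPolynomial (Fin n) A) → (Fin r → B),
      Ψ = fun p i => ψ' (p i) := ⟨_, rfl⟩
  have hΨL : ∀ p, p ∈ L ↔ π (Ψ p) = 0 := by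
    intro p
    rw [hL, hπ, hΨ]
  have hΨspan : ∀ p ∈ Submodule.span (MvPolynomial (Fin n) A)
      (↑G : Set (Fin r → MvPolynomial (Fin n) A)),
      Ψ p ∈ Submodule.span B (Ψ '' (↑G : Set (Fin r → MvPolynomial (Fin n) A))) := by
    intro p hp
    refine Submodule.span_induction (p := fun p _ => Ψ p ∈
      Submodule.span B (Ψ '' (↑G : Set (Fin r → MvPolynomial (Fin n) A)))) ?_ ?_ ?_ ?_ hp
    · intro g hg
      exact Submodule.subset_span ⟨g, hg, rfl⟩
    · have : Ψ 0 = 0 := by rw [hΨ]; funext i; simp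
      rw [this]
      exact Submodule.zero_mem _
    · intro x y _ _ hx hy
      have : Ψ (x + y) = Ψ x + Ψ y := by rw [hΨ]; funext i; simp
      rw [this]
      exact Submodule.add_mem _ hx hy
    · intro h x _ hx
      have : Ψ (h • x) = ψ' h • Ψ x := by rw [hΨ]; funext i; simp
      rw [this]
      exact Submodule.smul_mem _ _ hx
  have hker : (LinearMap.ker π).FG := by
    refine ⟨G.image Ψ, ?_⟩
    rw [Finset.coe_image]
    apply le_antisymm
    · rw [Submodule.span_le]
      rintro _ ⟨g, hg, rfl⟩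
      rw [SetLike.mem_coe, LinearMap.mem_ker, ← hΨL, ← hG]
      exact Submodule.subset_span hg
    · intro b hb
      rw [LinearMap.mem_ker] at hb
      have hden : ∀ i, ∃ t : B, t ∈ B₀ ∧ IsUnit t ∧ b i * t ∈ B₀ := fun i => hσ (b i)
      choose t ht₀ htu htb using hden
      obtain ⟨T, hT⟩ : ∃ T : B, T = ∏ i, t i := ⟨_, rfl⟩
      have hTu : IsUnit T := by
        rw [hT]
        exact (IsUnit.prod_univ_iff).mpr htu
      have hTb : ∀ i, T * b i ∈ B₀ := by
        intro i
        have h1 : T = (∏ j ∈ Finset.univ.erase i, t j) * t i := by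
          rw [hT, Finset.prod_erase_mul _ _ (Finset.mem_univ i)]
        rw [h1, mul_assoc, mul_comm (t i) (b i)]
        exact B₀.mul_mem (B₀.prod_mem fun j _ => ht₀ j) (htb i)
      have hp : ∀ i, ∃ p, ψ' p = T * b i := fun i => hψ'range _ (hTb i)
      choose p hp using hp
      have hΨp : Ψ p = T • b := by
        rw [hΨ]; funext i; exact hp i
      have hpL : p ∈ L := by
        rw [hΨL, hΨp, map_smul, hb, smul_zero]
      rw [← hG] at hpL
      have h2 := hΨspan p hpL
      rw [hΨp] at h2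
      obtain ⟨u, hu⟩ := hTu
      have h3 : b = (↑u⁻¹ : B) • (T • b) := by
        rw [smul_smul, ← hu, Units.inv_mul, one_smul]
      rw [h3]
      exact Submodule.smul_mem _ _ h2
  exact Module.finitePresentation_of_surjective π hπsurj hker

end Groth.Agent.H8.Val
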