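import Groth.Agent.Lib.Helper8.Val.SatFG
import Mathlib

/-!
# helper8: reducedness of flat algebras of finite type over a valuation ring

If `B` is flat and essentially of finite type over a valuation ring `A`, `𝔞 B` lies in the Jacobson
radical and all nilpotents of `B` lie in `𝔞 B`, then `B` is reduced (the nilradical is finitely
generated because `B/N` is flat hence finitely presented, then Nakayama).  Consequences for
fibres over arbitrary primes of `A`.
-/

set_option autoImplicit false
universe u
open IsLocalRing TensorProduct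

namespace Groth.Agent.H8.Val

theorem exists_mul_of_mem_map (A B : Type*) [CommRing A] [IsDomain A] [ValuationRing A]
    [CommRing B] [Algebra A B] (𝔞 : Ideal A) (b : B) (hb : b ∈ 𝔞.map (algebraMap A B)) :
    ∃ a ∈ 𝔞, ∃ b' : B, b = algebraMap A B a * b' := by
  change b ∈ Submodule.span B ((algebraMap A B) '' (𝔞 : Set A)) at hb
  induction hb using Submodule.span_induction with
  | mem x hx =>
    obtain ⟨a, ha, rfl⟩ := hx
    exact ⟨a, ha, 1, (mul_one _).symm⟩
  | zero => exact ⟨0, 𝔞.zero_mem, 0, by simp⟩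
  | add x y _ _ hx hy =>
    obtain ⟨a, ha, x', rfl⟩ := hx
    obtain ⟨c, hc, y', rfl⟩ := hy
    rcases ValuationRing.dvd_total a c with ⟨d, rfl⟩ | ⟨d, rfl⟩
    · exact ⟨a, ha, x' + algebraMap A B d * y', by rw [map_mul]; ring⟩
    · exact ⟨c, hc, algebraMap A B d * x' + y', by rw [map_mul]; ring⟩
  | smul r x _ hx =>
    obtain ⟨a, ha, x', rfl⟩ := hx
    exact ⟨a, ha, r * x', by rw [smul_eq_mul]; ring⟩

/-- the core statement -/
theorem isReduced_of_flat_essFiniteType (A B : Type u) [CommRing A] [IsDomain A] [ValuationRing A]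
    [CommRing B] [Algebra A B] [Algebra.EssFiniteType A B] [Module.Flat A B]
    (𝔞 : Ideal A) (hjac : 𝔞.map (algebraMap A B) ≤ Ideal.jacobson ⊥)
    (hnil : ∀ b : B, IsNilpotent b → b ∈ 𝔞.map (algebraMap A B)) : IsReduced B := by
  have htfB : ∀ a : A, a ≠ 0 → ∀ b : B, a • b = 0 → b = 0 := by
    intro a ha b hb
    have h1 : b ∈ Submodule.torsion A B := by
      rw [Submodule.mem_torsion_iff]
      exact ⟨⟨a, mem_nonZeroDivisors_of_ne_zero ha⟩, hb⟩
    rw [Module.Flat.torsion_eq_bot, Submodule.mem_bot] at h1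
    exact h1
  have hmemN : ∀ b : B, b ∈ nilradical B ↔ IsNilpotent b := fun b => mem_nilradical
  haveI : Module.Flat A (B ⧸ nilradical B) := by
    rw [Module.Flat.flat_iff_torsion_eq_bot_of_isBezout, eq_bot_iff]
    intro x hx
    rw [Submodule.mem_torsion_iff] at hx
    obtain ⟨⟨a, ha⟩, hax⟩ := hx
    have ha0 : a ≠ 0 := nonZeroDivisors.ne_zero ha
    obtain ⟨b, rfl⟩ := Ideal.Quotient.mk_surjective x
    rw [Submodule.mem_bot]
    change a • Ideal.Quotient.mk (nilradical B) b = 0 at hax
    have h1 : Ideal.Quotient.mk (nilradical B) (a • b) =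
        a • Ideal.Quotient.mk (nilradical B) b := by
      rw [Algebra.smul_def, map_mul, Algebra.smul_def]
      rfl
    have h3 : a • b ∈ nilradical B := by
      rw [← Ideal.Quotient.eq_zero_iff_mem, h1]
      exact hax
    obtain ⟨n, hn⟩ := (hmemN _).mp h3
    rw [smul_pow] at hn
    have h4 : b ^ n = 0 := htfB (a ^ n) (pow_ne_zero n ha0) _ hn
    exact Ideal.Quotient.eq_zero_iff_mem.mpr ((hmemN b).mpr ⟨n, h4⟩)
  haveI : Module.FinitePresentation B (B ⧸ nilradical B) := fp_of_flat A B (B ⧸ nilradical B)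
  have hNfg : (nilradical B).FG := by
    have h := Module.FinitePresentation.fg_ker (Submodule.mkQ (nilradical B))
      (Submodule.mkQ_surjective _)
    rwa [Submodule.ker_mkQ] at h
  have hle : nilradical B ≤ (𝔞.map (algebraMap A B)) • nilradical B := by
    intro b hb
    have hbn : IsNilpotent b := (hmemN b).mp hb
    obtain ⟨a, ha, b', rfl⟩ := exists_mul_of_mem_map A B 𝔞 b (hnil b hbn)
    by_cases ha0 : a = 0
    · subst ha0
      rw [map_zero, zero_mul]
      exact Submodule.zero_mem _
    · obtain ⟨n, hn⟩ := hbn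
      rw [mul_pow, ← map_pow, ← Algebra.smul_def] at hn
      have h4 : b' ^ n = 0 := htfB (a ^ n) (pow_ne_zero n ha0) _ hn
      have hb' : b' ∈ nilradical B := (hmemN b').mpr ⟨n, h4⟩
      exact Submodule.smul_mem_smul (Ideal.mem_map_of_mem _ ha) hb'
  have hN0 : nilradical B = ⊥ :=
    Submodule.eq_bot_of_le_smul_of_le_jacobson_bot (𝔞.map (algebraMap A B)) (nilradical B)
      hNfg hle hjac
  exact nilradical_eq_bot_iff.mp hN0

/-- if the closed fibre of a flat local algebra essentially of finite type over a valuation ring is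
reduced, so are all the fibres -/
theorem isRadical_map_of_valuation (A B : Type u) [CommRing A] [IsDomain A] [ValuationRing A]
    [CommRing B] [IsLocalRing B] [Algebra A B] [IsLocalHom (algebraMap A B)]
    [Algebra.EssFiniteType A B] [Module.Flat A B]
    (hrad : ((maximalIdeal A).map (algebraMap A B)).IsRadical)
    (p : Ideal A) [p.IsPrime] : (p.map (algebraMap A B)).IsRadical := by
  rw [Ideal.isRadical_iff_quotient_reduced]
  haveI : ValuationRing (A ⧸ p) :=
    Function.Surjective.valuationRing (Ideal.Quotient.mk p) Ideal.Quotient.mk_surjective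
  haveI : IsLocalRing (A ⧸ p) := inferInstance
  haveI : Module.Flat (A ⧸ p) (B ⧸ p.map (algebraMap A B)) :=
    Module.Flat.of_linearEquiv (Algebra.TensorProduct.quotIdealMapEquivQuotTensor B p).toLinearEquiv
  have hpm : p ≤ maximalIdeal A := IsLocalRing.le_maximalIdeal (Ideal.IsPrime.ne_top inferInstance)
  have hmk_mem : ∀ a : A, a ∈ maximalIdeal A →
      Ideal.Quotient.mk p a ∈ maximalIdeal (A ⧸ p) := by
    intro a ha
    rw [IsLocalRing.mem_maximalIdeal, mem_nonunits_iff]
    intro hu
    obtain ⟨c, hc⟩ := hu.exists_right_inv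
    obtain ⟨c0, rfl⟩ := Ideal.Quotient.mk_surjective c
    rw [← map_mul, ← map_one (Ideal.Quotient.mk p), Ideal.Quotient.eq] at hc
    have h1 : a * c0 - 1 ∈ maximalIdeal A := hpm hc
    have h2 : a * c0 ∈ maximalIdeal A := Ideal.mul_mem_right _ _ ha
    have h3 : (1 : A) ∈ maximalIdeal A := by
      have := Ideal.sub_mem _ h2 h1
      simpa using this
    exact (Ideal.ne_top_iff_one _).mp (IsLocalRing.maximalIdeal.isMaximal A).ne_top h3
  have hmem_mk : ∀ a : A, Ideal.Quotient.mk p a ∈ maximalIdeal (A ⧸ p) →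
      a ∈ maximalIdeal A := by
    intro a ha
    rw [IsLocalRing.mem_maximalIdeal, mem_nonunits_iff] at ha ⊢
    intro hu
    exact ha (hu.map (Ideal.Quotient.mk p))
  refine isReduced_of_flat_essFiniteType (A ⧸ p) (B ⧸ p.map (algebraMap A B))
    (maximalIdeal (A ⧸ p)) ?_ ?_
  · rw [Ideal.map_le_iff_le_comap]
    intro a' ha'
    obtain ⟨a, rfl⟩ := Ideal.Quotient.mk_surjective a'
    rw [Ideal.mem_comap]
    change Ideal.Quotient.mk (p.map (algebraMap A B)) (algebraMap A B a) ∈ _
    rw [Ideal.mem_jacobson_bot]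
    intro y
    obtain ⟨y0, rfl⟩ := Ideal.Quotient.mk_surjective y
    have ha : a ∈ maximalIdeal A := hmem_mk a ha'
    have hb : algebraMap A B a ∈ maximalIdeal B := by
      rw [IsLocalRing.mem_maximalIdeal, mem_nonunits_iff]
      intro hu
      have h1 := (isUnit_map_iff (algebraMap A B) a).mp hu
      exact (IsLocalRing.mem_maximalIdeal _).mp ha h1
    have hu : IsUnit (algebraMap A B a * y0 + 1) := by
      rw [← IsLocalRing.notMem_maximalIdeal]
      intro h
      have h2 : algebraMap A B a * y0 ∈ maximalIdeal B := Ideal.mul_mem_right _ _ hb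
      have h3 : (1 : B) ∈ maximalIdeal B := by
        have := Ideal.sub_mem _ h h2
        simpa using this
      exact (Ideal.ne_top_iff_one _).mp (IsLocalRing.maximalIdeal.isMaximal B).ne_top h3
    have h5 := hu.map (Ideal.Quotient.mk (p.map (algebraMap A B)))
    rwa [map_add, map_mul, map_one] at h5
  · intro b' hb'
    obtain ⟨b, rfl⟩ := Ideal.Quotient.mk_surjective b'
    obtain ⟨n, hn⟩ := hb'
    rw [← map_pow, Ideal.Quotient.eq_zero_iff_mem] at hn
    have h1 : b ^ n ∈ (maximalIdeal A).map (algebraMap A B) := Ideal.map_mono hpm hn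
    have h2 : b ∈ (maximalIdeal A).map (algebraMap A B) := hrad ⟨n, h1⟩
    obtain ⟨a, ha, b0, rfl⟩ := exists_mul_of_mem_map A B _ b h2
    rw [map_mul]
    have h3 : Ideal.Quotient.mk (p.map (algebraMap A B)) (algebraMap A B a) =
        algebraMap (A ⧸ p) (B ⧸ p.map (algebraMap A B)) (Ideal.Quotient.mk p a) := rfl
    rw [h3]
    exact Ideal.mul_mem_right _ _ (Ideal.mem_map_of_mem _ (hmk_mem a ha))

/-- radical extended ideals descend to smaller localizations -/
theorem isRadical_map_localization_of_le {C : Type*} [CommRing C] (J : Ideal C)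
    (q0 q : Ideal C) [q0.IsPrime] [q.IsPrime] (hle : q ≤ q0)
    (L0 L : Type*) [CommRing L0] [CommRing L] [Algebra C L0] [Algebra C L]
    [IsLocalization.AtPrime L0 q0] [IsLocalization.AtPrime L q]
    (h0 : (J.map (algebraMap C L0)).IsRadical) : (J.map (algebraMap C L)).IsRadical := by
  intro y hy
  obtain ⟨n, hn⟩ := hy
  obtain ⟨c, s, rfl⟩ := IsLocalization.exists_mk'_eq q.primeCompl y
  have h1 : algebraMap C L (c ^ n) ∈ J.map (algebraMap C L) := by
    have h : algebraMap C L (c ^ n) =
        (IsLocalization.mk' L c s) ^ n * algebraMap C L ((s : C) ^ n) := by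
      rw [map_pow, map_pow, ← mul_pow, IsLocalization.mk'_spec]
    rw [h]
    exact Ideal.mul_mem_right _ _ hn
  rw [IsLocalization.mem_map_algebraMap_iff q.primeCompl] at h1
  obtain ⟨⟨⟨j, hj⟩, t⟩, h2⟩ := h1
  rw [← map_mul, IsLocalization.eq_iff_exists q.primeCompl] at h2
  obtain ⟨t', h3⟩ := h2
  -- d := t' * t * c satisfies d^(n+1) ∈ J
  have hd : ((t' : C) * (t : C) * c) ^ (n + 1) ∈ J := by
    have h : ((t' : C) * (t : C) * c) ^ (n + 1) =
        ((t' : C) * (t : C)) ^ n * c * ((t' : C) * (c ^ n * (t : C))) := by ring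
    rw [h, h3]
    exact J.mul_mem_left _ (J.mul_mem_left _ hj)
  have h4 : algebraMap C L0 ((t' : C) * (t : C) * c) ∈ J.map (algebraMap C L0) := by
    apply h0
    refine ⟨n + 1, ?_⟩
    rw [← map_pow]
    exact Ideal.mem_map_of_mem _ hd
  rw [IsLocalization.mem_map_algebraMap_iff q0.primeCompl] at h4
  obtain ⟨⟨⟨j', hj'⟩, v⟩, h5⟩ := h4
  rw [← map_mul, IsLocalization.eq_iff_exists q0.primeCompl] at h5
  obtain ⟨v', h6⟩ := h5
  have hv : (v : C) ∉ q := fun h => v.2 (hle h)
  have hv' : (v' : C) ∉ q := fun h => v'.2 (hle h)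
  have hw : (v' : C) * (v : C) * ((t' : C) * (t : C)) ∈ q.primeCompl :=
    Submonoid.mul_mem _ (Submonoid.mul_mem _ hv' hv) (Submonoid.mul_mem _ t'.2 t.2)
  have h7 : (v' : C) * (v : C) * ((t' : C) * (t : C)) * c ∈ J := by
    have h : (v' : C) * (v : C) * ((t' : C) * (t : C)) * c =
        (v' : C) * ((t' : C) * (t : C) * c * (v : C)) := by ring
    rw [h, h6]
    exact J.mul_mem_left _ hj'
  have h8 : algebraMap C L ((v' : C) * (v : C) * ((t' : C) * (t : C))) * algebraMap C L c ∈
      J.map (algebraMap C L) := by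
    rw [← map_mul]
    exact Ideal.mem_map_of_mem _ h7
  have hunit : IsUnit (algebraMap C L ((v' : C) * (v : C) * ((t' : C) * (t : C)))) :=
    IsLocalization.map_units L ⟨_, hw⟩
  have h9 : algebraMap C L c ∈ J.map (algebraMap C L) :=
    (Ideal.unit_mul_mem_iff_mem _ hunit).mp h8
  rw [IsLocalization.mk'_eq_mul_mk'_one]
  exact Ideal.mul_mem_right _ _ h9

/-- the main algebraic statement -/
theorem isReduced_localization_fibre (A C : Type u) [CommRing A] [IsDomain A] [ValuationRing A]
    [CommRing C] [Algebra A C] [Algebra.FiniteType A C] [Module.Flat A C]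
    (q0 q : Ideal C) [q0.IsPrime] [q.IsPrime] (hle : q ≤ q0)
    (hm : ∀ a : A, ¬ IsUnit a → algebraMap A C a ∈ q0)
    (L0 L : Type u) [CommRing L0] [CommRing L] [Algebra C L0] [Algebra C L]
    [IsLocalization.AtPrime L0 q0] [IsLocalization.AtPrime L q]
    (hred0 : IsReduced (L0 ⧸ ((q0.comap (algebraMap A C)).map (algebraMap A C)).map
      (algebraMap C L0))) :
    IsReduced (L ⧸ ((q.comap (algebraMap A C)).map (algebraMap A C)).map (algebraMap C L)) ∧
      IsReduced L := by
  letI algAL0 : Algebra A L0 := ((algebraMap C L0).comp (algebraMap A C)).toAlgebra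
  haveI : IsScalarTower A C L0 := IsScalarTower.of_algebraMap_eq (fun _ => rfl)
  haveI : IsLocalRing L0 := IsLocalization.AtPrime.isLocalRing L0 q0
  haveI : Module.Flat C L0 := IsLocalization.flat L0 q0.primeCompl
  haveI : Module.Flat A L0 := Module.Flat.trans A C L0
  haveI : Algebra.EssFiniteType C L0 := Algebra.EssFiniteType.of_isLocalization L0 q0.primeCompl
  haveI : Algebra.EssFiniteType A L0 := Algebra.EssFiniteType.comp A C L0
  haveI : IsLocalHom (algebraMap A L0) := by
    constructor
    intro a ha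
    by_contra hna
    have h1 : algebraMap A C a ∈ q0 := hm a hna
    have h2 : algebraMap C L0 (algebraMap A C a) ∈ maximalIdeal L0 :=
      (IsLocalization.AtPrime.to_map_mem_maximal_iff L0 q0 _).mpr h1
    exact (IsLocalRing.mem_maximalIdeal _).mp h2 ha
  have hq0 : q0.comap (algebraMap A C) = maximalIdeal A := by
    apply le_antisymm
    · exact IsLocalRing.le_maximalIdeal (Ideal.IsPrime.ne_top (Ideal.comap_isPrime _ _))
    · intro a ha
      exact hm a ((IsLocalRing.mem_maximalIdeal a).mp ha)
  have hrad : ((maximalIdeal A).map (algebraMap A L0)).IsRadical := by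
    rw [Ideal.isRadical_iff_quotient_reduced]
    rw [hq0, Ideal.map_map] at hred0
    exact hred0
  haveI hpprime : (q.comap (algebraMap A C)).IsPrime := Ideal.comap_isPrime _ _
  have h1 : ((q.comap (algebraMap A C)).map (algebraMap A L0)).IsRadical :=
    isRadical_map_of_valuation A L0 hrad (q.comap (algebraMap A C))
  have h1' : (((q.comap (algebraMap A C)).map (algebraMap A C)).map
      (algebraMap C L0)).IsRadical := by
    rw [Ideal.map_map]
    exact h1
  have h2 : (((q.comap (algebraMap A C)).map (algebraMap A C)).map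
      (algebraMap C L)).IsRadical :=
    isRadical_map_localization_of_le _ q0 q hle L0 L h1'
  refine ⟨(Ideal.isRadical_iff_quotient_reduced _).mp h2, ?_⟩
  letI algAL : Algebra A L := ((algebraMap C L).comp (algebraMap A C)).toAlgebra
  haveI : IsScalarTower A C L := IsScalarTower.of_algebraMap_eq (fun _ => rfl)
  haveI : IsLocalRing L := IsLocalization.AtPrime.isLocalRing L q
  haveI : Module.Flat C L := IsLocalization.flat L q.primeCompl
  haveI : Module.Flat A L := Module.Flat.trans A C L
  haveI : Algebra.EssFiniteType C L := Algebra.EssFiniteType.of_isLocalization L q.primeCompl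
  haveI : Algebra.EssFiniteType A L := Algebra.EssFiniteType.comp A C L
  have h3 : ((q.comap (algebraMap A C)).map (algebraMap A C)).map (algebraMap C L) =
      (q.comap (algebraMap A C)).map (algebraMap A L) := by
    rw [Ideal.map_map]
    rfl
  refine isReduced_of_flat_essFiniteType A L (q.comap (algebraMap A C)) ?_ ?_
  · rw [IsLocalRing.jacobson_eq_maximalIdeal ⊥ bot_ne_top, Ideal.map_le_iff_le_comap]
    intro a ha
    exact (IsLocalization.AtPrime.to_map_mem_maximal_iff L q _).mpr ha
  · intro y hy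
    obtain ⟨n, hn⟩ := hy
    rw [← h3]
    apply h2
    exact ⟨n, by rw [hn]; exact Ideal.zero_mem _⟩

end Groth.Agent.H8.Val
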