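import Groth.Agent.Lib.Helper8.Val.RedFib
import Groth.Agent.Lib.Helper1.FibreStalk
import Groth.Agent.Lib.Helper1.SchRegFib
import Mathlib

/-!
# helper8: proper flat schemes over a valuation ring with reduced special fibre
-/

set_option autoImplicit false
universe u
open CategoryTheory CategoryTheory.Limits AlgebraicGeometry IsLocalRing

namespace Groth.Agent.H8.Val

set_option maxHeartbeats 1600000 in
theorem stalk_fibre_reduced {R : Type u} [CommRing R] [IsDomain R] [ValuationRing R]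
    {X : Scheme.{u}} (f : X ⟶ Spec (CommRingCat.of R)) [IsProper f] [Flat f]
    (hred : IsReduced (f.fiber (IsLocalRing.closedPoint R))) (x : X) :
    _root_.IsReduced ((f.fiber (f x)).presheaf.stalk (f.asFiber x)) ∧
      _root_.IsReduced (X.presheaf.stalk x) := by
  -- a specialization in the special fibre
  obtain ⟨x0, hxx0, hx0⟩ : ∃ x0 : X, x ⤳ x0 ∧ f x0 = IsLocalRing.closedPoint R := by
    have hcl : IsClosed (f '' closure {x}) := f.isClosedMap _ isClosed_closure
    have hmem : f x ∈ f '' closure {x} := ⟨x, subset_closure rfl, rfl⟩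
    have hsp : f x ⤳ (IsLocalRing.closedPoint R : PrimeSpectrum R) :=
      IsLocalRing.specializes_closedPoint _
    obtain ⟨x0, hx0c, hx0⟩ := hsp.mem_closed hcl hmem
    exact ⟨x0, specializes_iff_mem_closure.mpr hx0c, hx0⟩
  obtain ⟨U, hU, hx0U⟩ : ∃ U : X.Opens, IsAffineOpen U ∧ x0 ∈ U := by
    obtain ⟨_, ⟨U, hU, rfl⟩, hxU, -⟩ :=
      X.isBasis_affineOpens.exists_subset_of_mem_open (Set.mem_univ x0) isOpen_univ
    exact ⟨U, hU, hxU⟩
  have hxU : x ∈ U := hxx0.mem_open U.isOpen hx0U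
  have e : U ≤ f ⁻¹ᵁ (⊤ : (Spec (CommRingCat.of R)).Opens) := fun _ _ => trivial
  let eΓ : Γ(Spec (CommRingCat.of R), ⊤) ≃+* R :=
    (Scheme.ΓSpecIso (CommRingCat.of R)).commRingCatIsoToRingEquiv
  haveI : IsDomain Γ(Spec (CommRingCat.of R), ⊤) := MulEquiv.isDomain R eΓ.toMulEquiv
  haveI : ValuationRing Γ(Spec (CommRingCat.of R), ⊤) :=
    Function.Surjective.valuationRing (eΓ.symm : R →+* _) eΓ.symm.surjective
  let φ : Γ(Spec (CommRingCat.of R), ⊤) →+* Γ(X, U) := (f.appLE ⊤ U e).hom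
  letI algφ : Algebra Γ(Spec (CommRingCat.of R), ⊤) Γ(X, U) := φ.toAlgebra
  haveI : Module.Flat Γ(Spec (CommRingCat.of R), ⊤) Γ(X, U) :=
    HasRingHomProperty.appLE (P := @Flat) f inferInstance ⟨⊤, isAffineOpen_top _⟩ ⟨U, hU⟩ e
  haveI : Algebra.FiniteType Γ(Spec (CommRingCat.of R), ⊤) Γ(X, U) :=
    HasRingHomProperty.appLE (P := @LocallyOfFiniteType) f inferInstance
      ⟨⊤, isAffineOpen_top _⟩ ⟨U, hU⟩ e
  have hle : hU.primeIdealOf ⟨x, hxU⟩ ≤ hU.primeIdealOf ⟨x0, hx0U⟩ := by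
    rw [PrimeSpectrum.le_iff_specializes]
    have h0 : (⟨x, hxU⟩ : U) ⤳ ⟨x0, hx0U⟩ := (subtype_specializes_iff _ _).mpr hxx0
    exact h0.map hU.isoSpec.hom.continuous
  have hcomap0 : (hU.primeIdealOf ⟨x0, hx0U⟩).comap φ =
      (isAffineOpen_top (Spec (CommRingCat.of R))).primeIdealOf ⟨f x0, e hx0U⟩ :=
    IsAffineOpen.comap_primeIdealOf_appLE ⊤ (isAffineOpen_top _) U hU e hx0U
  have hmax : ((isAffineOpen_top (Spec (CommRingCat.of R))).primeIdealOf
      ⟨f x0, e hx0U⟩).asIdeal.IsMaximal := by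
    apply IsAffineOpen.primeIdealOf_isMaximal_of_isClosed
    show IsClosed {f x0}
    rw [hx0]
    exact IsLocalRing.isClosed_singleton_closedPoint R
  have hm : ∀ a : Γ(Spec (CommRingCat.of R), ⊤), ¬ IsUnit a →
      algebraMap Γ(Spec (CommRingCat.of R), ⊤) Γ(X, U) a ∈ (hU.primeIdealOf ⟨x0, hx0U⟩).asIdeal := by
    intro a ha
    have h1 : a ∈ IsLocalRing.maximalIdeal Γ(Spec (CommRingCat.of R), ⊤) :=
      (IsLocalRing.mem_maximalIdeal a).mpr ha
    rw [← IsLocalRing.eq_maximalIdeal hmax, ← hcomap0] at h1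
    exact h1
  letI algL0 : Algebra Γ(X, U) (X.presheaf.stalk x0) :=
    TopCat.Presheaf.algebra_section_stalk X.presheaf ⟨x0, hx0U⟩
  haveI locL0 : IsLocalization.AtPrime (X.presheaf.stalk x0)
      (hU.primeIdealOf ⟨x0, hx0U⟩).asIdeal := hU.isLocalization_stalk ⟨x0, hx0U⟩
  letI algL : Algebra Γ(X, U) (X.presheaf.stalk x) :=
    TopCat.Presheaf.algebra_section_stalk X.presheaf ⟨x, hxU⟩
  haveI locL : IsLocalization.AtPrime (X.presheaf.stalk x)
      (hU.primeIdealOf ⟨x, hxU⟩).asIdeal := hU.isLocalization_stalk ⟨x, hxU⟩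
  have hred0 : _root_.IsReduced (X.presheaf.stalk x0 ⧸
      (((hU.primeIdealOf ⟨x0, hx0U⟩).asIdeal.comap
        (algebraMap Γ(Spec (CommRingCat.of R), ⊤) Γ(X, U))).map
        (algebraMap Γ(Spec (CommRingCat.of R), ⊤) Γ(X, U))).map
        (algebraMap Γ(X, U) (X.presheaf.stalk x0))) := by
    have h5 := Groth.Agent.H1.SchFlat.map_maximalIdeal_stalkMap_eq f hU (isAffineOpen_top _) e
      x0 hx0U
    have key : ∀ (s : Spec (CommRingCat.of R)) (_ : f x0 = s), IsReduced (f.fiber s) →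
        _root_.IsReduced ((f.fiber (f x0)).presheaf.stalk (f.asFiber x0)) := by
      rintro s rfl h
      infer_instance
    haveI h6 := key _ hx0 hred
    have h7 : _root_.IsReduced (X.presheaf.stalk x0 ⧸ Ideal.map (f.stalkMap x0).hom
        (IsLocalRing.maximalIdeal ((Spec (CommRingCat.of R)).presheaf.stalk (f x0)))) :=
      isReduced_of_injective (Groth.Agent.H1.FibreStalk.fiberStalkEquiv f x0).toRingHom
        (Groth.Agent.H1.FibreStalk.fiberStalkEquiv f x0).injective
    rw [h5] at h7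
    exact h7
  obtain ⟨hT1, hT2⟩ := isReduced_localization_fibre Γ(Spec (CommRingCat.of R), ⊤) Γ(X, U)
    (hU.primeIdealOf ⟨x0, hx0U⟩).asIdeal (hU.primeIdealOf ⟨x, hxU⟩).asIdeal hle hm
    (X.presheaf.stalk x0) (X.presheaf.stalk x) hred0
  refine ⟨?_, hT2⟩
  have h5x := Groth.Agent.H1.SchFlat.map_maximalIdeal_stalkMap_eq f hU (isAffineOpen_top _) e
    x hxU
  haveI h8 : _root_.IsReduced (X.presheaf.stalk x ⧸ Ideal.map (f.stalkMap x).hom
      (IsLocalRing.maximalIdeal ((Spec (CommRingCat.of R)).presheaf.stalk (f x)))) := by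
    rw [h5x]
    exact hT1
  exact isReduced_of_injective (Groth.Agent.H1.FibreStalk.fiberStalkEquiv f x).symm.toRingHom
    (Groth.Agent.H1.FibreStalk.fiberStalkEquiv f x).symm.injective

theorem s0438 {R : Type u} [CommRing R] [IsDomain R] [ValuationRing R] {X : Scheme.{u}}
    (f : X ⟶ Spec (CommRingCat.of R)) [IsProper f] [Flat f]
    (hred : IsReduced (f.fiber (IsLocalRing.closedPoint R))) :
    IsReduced X ∧ ∀ s : ↑(Spec (CommRingCat.of R)), IsReduced (f.fiber s) := by
  refine ⟨?_, fun s => ?_⟩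
  · haveI : ∀ x : X, _root_.IsReduced (X.presheaf.stalk x) :=
      fun x => (stalk_fibre_reduced f hred x).2
    exact isReduced_of_isReduced_stalk X
  · haveI : ∀ z : f.fiber s, _root_.IsReduced ((f.fiber s).presheaf.stalk z) := by
      intro z
      have key : ∀ (x : X) (s : Spec (CommRingCat.of R)) (_ : f x = s) (z : f.fiber s),
          f.fiberι s z = x → _root_.IsReduced ((f.fiber s).presheaf.stalk z) := by
        intro x s hs z hz
        subst hs
        have h : z = f.asFiber x := by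
          apply (f.fiberι (f x)).isEmbedding.injective
          rw [hz, f.fiberι_asFiber]
        rw [h]
        exact (stalk_fibre_reduced f hred x).1
      have hs : f (f.fiberι s z) = s := by
        have h1 : f.fiberι s z ∈ Set.range (f.fiberι s) := ⟨z, rfl⟩
        rw [f.range_fiberι] at h1
        exact h1
      exact key (f.fiberι s z) s hs z rfl
    exact isReduced_of_isReduced_stalk _

end Groth.Agent.H8.Val
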